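/-
Glauberman: a perfect group of automorphisms generated by 2-elements which fixes a Sylow 2-subgroup pointwise is
trivial modulo the odd core.
-/
import Cfsg.Agent.Lib.BrauerSuzuki.ZStar
import Cfsg.Agent.Lib.Fusion.AlperinGroup
import Cfsg.Agent.Lib.Components.BpPCIn
import Cfsg.Agent.Lib.Transfer.Basic

set_option autoImplicit false

namespace Cfsg.Agent.LBalance

open Subgroup Cfsg.Agent.Components
open scoped commutatorElement

universe u v

variable {M : Type u} [Group M] {L : Type v} [Group L]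

/-- The restriction of an action to an invariant subgroup. -/
def resHom (φ : L →* MulAut M) (N : Subgroup M) (hN : ∀ l, ∀ n ∈ N, φ l n ∈ N) : L →* MulAut N where
  toFun l :=
    { toFun := fun n => ⟨φ l n, hN l n n.2⟩
      invFun := fun n => ⟨φ l⁻¹ n, hN l⁻¹ n n.2⟩
      left_inv := fun n => Subtype.ext (show φ l⁻¹ (φ l n) = n by rw [map_inv]; exact (φ l).symm_apply_apply _)
      right_inv := fun n => Subtype.ext (show φ l (φ l⁻¹ n) = n by rw [map_inv]; exact (φ l).apply_symm_apply _)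
      map_mul' := fun a b => Subtype.ext (map_mul (φ l) (a : M) b) }
  map_one' := by ext n; show φ 1 (n : M) = n; rw [map_one]; rfl
  map_mul' a b := by ext n; show φ (a * b) (n : M) = φ a (φ b n); rw [map_mul]; rfl

/-- The action induced on a quotient. -/
def quotHom (φ : L →* MulAut M) (N : Subgroup M) [N.Normal] (hN : ∀ l, N.map (φ l).toMonoidHom = N) :
    L →* MulAut (M ⧸ N) where
  toFun l := QuotientGroup.congr N N (φ l) (hN l)
  map_one' := by
    ext x
    induction x using QuotientGroup.induction_on with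
    | H y => show (QuotientGroup.mk (φ 1 y) : M ⧸ N) = _; rw [map_one]; rfl
  map_mul' a b := by
    ext x
    induction x using QuotientGroup.induction_on with
    | H y => show (QuotientGroup.mk (φ (a * b) y) : M ⧸ N) = _; rw [map_mul]; rfl

/-- A perfect group stabilising a central series of length two is trivial. -/
theorem stab_trivial (φ : L →* MulAut M) (hperf : commutator L = ⊤) (Z : Subgroup M)
    (hZ : ∀ a ∈ Z, ∀ b ∈ Z, a * b = b * a) (hfix : ∀ l, ∀ z ∈ Z, φ l z = z)
    (hδ : ∀ l m, φ l m * m⁻¹ ∈ Z) : ∀ l m, φ l m = m := by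
  intro l m
  letI : CommGroup Z := { mul_comm := fun a b => Subtype.ext (hZ a a.2 b b.2) }
  let f : L →* Z := MonoidHom.mk' (fun k => ⟨φ k m * m⁻¹, hδ k m⟩) fun a b => by
    apply Subtype.ext
    show φ (a * b) m * m⁻¹ = φ a m * m⁻¹ * (φ b m * m⁻¹)
    have h1 : φ a (φ b m * m⁻¹) = φ b m * m⁻¹ := hfix a _ (hδ b m)
    rw [hZ _ (hδ a m) _ (hδ b m)]
    conv_rhs => rw [← h1, map_mul, map_inv]
    rw [map_mul φ a b, MulAut.mul_apply]
    group
  have h : l ∈ f.ker := Abelianization.commutator_subset_ker f (by rw [hperf]; exact mem_top l)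
  exact mul_inv_eq_one.1 (congrArg Subtype.val h)

/-- The statement proved by induction. -/
def Statement (M : Type u) [Group M] (L : Type v) [Group L] : Prop :=
  ∀ φ : L →* MulAut M, ∀ R : Sylow 2 M, (∀ l, ∀ x ∈ (R : Subgroup M), φ l x = x) →
    ∀ l m, φ l m * m⁻¹ ∈ pPrimeCore 2 M

variable [Finite M]

/-- The statement passed to an invariant subgroup. -/
theorem apply_sub {N : Subgroup M} (hN : Statement ↥N L) (φ : L →* MulAut M)
    (hinv : ∀ l, ∀ n ∈ N, φ l n ∈ N) {S : Subgroup M} (hS : IsPGroup 2 S) (hSN : S ≤ N)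
    (hidx : ¬ 2 ∣ S.relIndex N) (hfix : ∀ l, ∀ x ∈ S, φ l x = x) :
    ∀ l, ∀ n ∈ N, φ l n * n⁻¹ ∈ (pPrimeCore 2 ↥N).map N.subtype := by
  haveI : Fact (Nat.Prime 2) := ⟨Nat.prime_two⟩
  intro l n hn
  exact ⟨_, hN (resHom φ N hinv) ((hS.comap_of_injective N.subtype N.subtype_injective).toSylow hidx)
    (fun k x hx => Subtype.ext (hfix k x hx)) l ⟨n, hn⟩, rfl⟩

/-- An element of order two permuting an odd set has a fixed point. -/
theorem exists_fix {α : Type*} [Finite α] (hα : Odd (Nat.card α)) (f : α → α) (hf : ∀ a, f (f a) = a) :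
    ∃ a, f a = a := by
  classical
  haveI := Fintype.ofFinite α
  rw [Nat.card_eq_fintype_card] at hα
  obtain ⟨a, ha⟩ := Equiv.Perm.exists_fixed_point_of_prime (p := 2) (n := 1)
    (σ := Function.Involutive.toPerm f hf) (Nat.two_dvd_ne_zero.2 (Nat.odd_iff.1 hα))
    (by rw [pow_one, pow_two]; exact Equiv.ext hf)
  exact ⟨a, ha⟩

variable (φ : L →* MulAut M)

/-- The fixed points of one acting element. -/
def fixed (k : L) : Subgroup M := (φ k : M ≃* M).toMonoidHom.eqLocus (MonoidHom.id M)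

omit [Finite M] in
theorem mem_fixed {k : L} {x : M} : x ∈ fixed φ k ↔ φ k x = x := Iff.rfl

open AlperinGroup in
/-- Conjugations inside the fixed Sylow subgroup are induced by fixed elements. -/
theorem exists_fixed_conj (hM : ∀ N : Subgroup M, N ≠ ⊤ → Statement ↥N L)
    (h2 : pCore 2 M = ⊥) (R : Sylow 2 M) (hfix : ∀ l, ∀ x ∈ (R : Subgroup M), φ l x = x) {k : L}
    (hk : ∀ x, φ k (φ k x) = x) {A : Set M} {g : M} (h : Chain R A g) :
    ∃ g', φ k g' = g' ∧ ∀ a ∈ A, g'⁻¹ * a * g' = g⁻¹ * a * g := by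
  haveI : Fact (Nat.Prime 2) := ⟨Nat.prime_two⟩
  induction h with
  | @nil A c hc =>
    refine ⟨1, map_one _, fun a ha => ?_⟩
    rw [inv_one, one_mul, mul_one, mul_assoc, Subgroup.mem_centralizer_iff.1 hc a ha, inv_mul_cancel_left]
  | @cons A x g D hD hx hA _ ih =>
    obtain ⟨g', hg', hgA⟩ := ih
    suffices ∃ x', φ k x' = x' ∧ ∀ a ∈ A, x'⁻¹ * a * x' = x⁻¹ * a * x by
      obtain ⟨x', hx', hxA⟩ := this
      refine ⟨x' * g', by rw [map_mul, hx', hg'], fun a ha => ?_⟩
      rw [show (x' * g')⁻¹ * a * (x' * g') = g'⁻¹ * (x'⁻¹ * a * x') * g' by group, hxA a ha,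
        hgA _ ⟨a, ha, rfl⟩]
      group
    obtain ⟨hDS, -, -, hsyl⟩ := hD
    set N := Subgroup.normalizer (D : Set M) with hN
    by_cases htop : N = ⊤
    · have hDb : D = ⊥ := by
        rw [eq_bot_iff, ← h2]
        exact FittingCores.le_pCore (Subgroup.normalizer_eq_top_iff.1 htop) (R.2.to_le hDS)
      refine ⟨1, map_one _, fun a ha => ?_⟩
      have := hA ha
      rw [hDb, SetLike.mem_coe, Subgroup.mem_bot] at this
      subst this
      group
    have hinv : ∀ l, ∀ n ∈ N, φ l n ∈ N := by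
      intro l n hn
      refine Cfsg.Agent.FusionSys.mem_normalizer_of_conj_mem_finite fun d hd => ?_
      have h1 : n * d * n⁻¹ ∈ D := (Subgroup.mem_normalizer_iff.1 hn d).1 hd
      have h2 := hfix l _ (hDS h1)
      rw [map_mul, map_mul, map_inv, hfix l d (hDS hd)] at h2
      rwa [h2]
    have hcore := apply_sub (hM N htop) φ hinv (R.2.to_le inf_le_left) inf_le_right hsyl
      (fun l y hy => hfix l y hy.1) k
    set O := (pPrimeCore 2 ↥N).map N.subtype with hO
    haveI := FittingCores.pPrimeCore_normal (G := ↥N) 2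
    have hON : O ≤ N := map_subtype_le _
    have hkN : ∀ o ∈ O, φ k o ∈ O := by
      intro o ho
      simpa using O.mul_mem (hcore o (hON ho)) ho
    -- a fixed point in the coset
    obtain ⟨⟨o, ho⟩, hoe⟩ := exists_fix (α := O) (by
        rw [hO, card_map_of_injective N.subtype_injective, Nat.odd_iff, ← Nat.two_dvd_ne_zero]
        exact fun hd => by
          have := Nat.eq_one_of_dvd_coprimes (FittingCores.pPrimeCore_coprime (G := ↥N) 2) hd dvd_rfl
          omega)
      (fun o => ⟨φ k o * (φ k x * x⁻¹), O.mul_mem (hkN o o.2) (hcore x hx)⟩) (fun o => by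
        apply Subtype.ext
        show φ k (φ k o * (φ k x * x⁻¹)) * (φ k x * x⁻¹) = o
        rw [map_mul, map_mul, map_inv, hk, hk]
        group)
    have hfx : φ k (o * x) = o * x := by
      have e : φ k o * (φ k x * x⁻¹) = o := congrArg Subtype.val hoe
      rw [map_mul]
      calc φ k o * φ k x = φ k o * (φ k x * x⁻¹) * x := by group
        _ = _ := by rw [e]
    refine ⟨o * x, hfx, fun a ha => ?_⟩
    -- the core centralises D
    have hc : o * a = a * o := by
      have hDN : D ≤ N := Subgroup.le_normalizer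
      obtain ⟨o', ho', rfl⟩ := ho
      have hdis : Disjoint (pPrimeCore 2 ↥N) (D.subgroupOf N) := disjoint_iff.2
        (Cfsg.Agent.PBasic.inf_eq_bot_of_coprime (p := 2) (FittingCores.pPrimeCore_coprime 2)
          ((R.2.to_le hDS).comap_of_injective _ N.subtype_injective))
      exact congrArg Subtype.val (Subgroup.commute_of_normal_of_disjoint _ _ inferInstance
        Subgroup.normal_in_normalizer hdis o' ⟨a, hDN (hA ha)⟩ ho' (hA ha)).eq
    have hc' : o⁻¹ * a * o = a := by rw [mul_assoc, ← hc, inv_mul_cancel_left]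
    rw [show (o * x)⁻¹ * a * (o * x) = x⁻¹ * (o⁻¹ * a * o) * x by group, hc']

/-- With trivial cores, only the identity is inverted-displaced. -/
theorem no_shift (hM : ∀ N : Subgroup M, N ≠ ⊤ → Statement ↥N L)
    (hO : pPrimeCore 2 M = ⊥) (h2 : pCore 2 M = ⊥) (R : Sylow 2 M)
    (hfix : ∀ l, ∀ x ∈ (R : Subgroup M), φ l x = x) {k : L} (hk : ∀ x, φ k (φ k x) = x)
    {m : M} (hm : φ k (m * (φ k m)⁻¹) = m * (φ k m)⁻¹) : m * (φ k m)⁻¹ = 1 := by
  classical
  haveI : Fact (Nat.Prime 2) := ⟨Nat.prime_two⟩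
  set F := fixed φ k with hF
  have hRF : (R : Subgroup M) ≤ F := fun x hx => hfix k x hx
  have hconj : ∀ f ∈ F, ∀ x, (f * x) * (φ k (f * x))⁻¹ = f * (x * (φ k x)⁻¹) * f⁻¹ := fun f hf x => by
    rw [map_mul, (mem_fixed φ).1 hf]; group
  -- elements of the fixed group are conjugated into R by fixed elements
  have hsylF : ∀ B : Subgroup M, IsPGroup 2 B → B ≤ F → ∃ f ∈ F, ∀ b ∈ B, f * b * f⁻¹ ∈ (R : Subgroup M) := by
    intro B hB hBF
    obtain ⟨Q, hQ⟩ := (hB.comap_of_injective F.subtype F.subtype_injective).exists_le_sylow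
    obtain ⟨f, hf⟩ := MulAction.exists_smul_eq F Q (R.subtype hRF)
    refine ⟨f, f.2, fun b hb => ?_⟩
    have h1 : f * ⟨b, hBF hb⟩ * f⁻¹ ∈ (R.subtype hRF : Subgroup F) := by
      rw [← hf, Sylow.coe_subgroup_smul]
      exact ⟨⟨b, hBF hb⟩, hQ hb, rfl⟩
    exact Subgroup.mem_subgroupOf.1 h1
  by_contra hr0
  set Bad := {r : M | r ∈ (R : Subgroup M) ∧ r ≠ 1 ∧ r * r = 1 ∧ ∃ x, x * (φ k x)⁻¹ = r} with hBad
  have hsq : m * (φ k m)⁻¹ * (m * (φ k m)⁻¹) = 1 := by
    conv_lhs => arg 2; rw [← hm, map_mul, map_inv, hk]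
    group
  have hne : Bad.Nonempty := by
    obtain ⟨f, hf, hfR⟩ := hsylF (Subgroup.zpowers (m * (φ k m)⁻¹))
      (IsPGroup.of_card (n := 1) (by
        rw [Nat.card_zpowers, orderOf_eq_prime (p := 2) (by rw [pow_two]; exact hsq) hr0, pow_one]))
      (Subgroup.zpowers_le.2 hm)
    refine ⟨_, hfR _ (Subgroup.mem_zpowers _), fun e => hr0 (mul_eq_left.1 (mul_inv_eq_one.1 e)),
      ?_, f * m, hconj f hf m⟩
    rw [show f * (m * (φ k m)⁻¹) * f⁻¹ * (f * (m * (φ k m)⁻¹) * f⁻¹) =
      f * (m * (φ k m)⁻¹ * (m * (φ k m)⁻¹)) * f⁻¹ by group, hsq]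
    group
  obtain ⟨r, hrB, hmax⟩ := Set.exists_max_image Bad
    (fun r => Nat.card ((R : Subgroup M) ⊓ Subgroup.centralizer ({r} : Set M) : Subgroup M)) (Set.toFinite _) hne
  obtain ⟨hrR, hr1, hrr, x, hx⟩ := hrB
  set C := Subgroup.centralizer ({r} : Set M) with hC
  set A := (R : Subgroup M) ⊓ C with hA
  have hchain : ∀ g : M, (∀ a ∈ A, g⁻¹ * a * g ∈ (R : Subgroup M)) →
      ∃ g', φ k g' = g' ∧ ∀ a ∈ A, g'⁻¹ * a * g' = g⁻¹ * a * g := fun g hg =>
    exists_fixed_conj φ hM h2 R hfix hk (AlperinGroup.exists_chain R (A := (A : Set M))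
      (fun a ha => (Subgroup.mem_inf.1 ha).1) (by rintro _ ⟨a, ha, rfl⟩; exact hg a ha))
  have hrA : r ∈ A := ⟨hrR, Subgroup.mem_centralizer_singleton_iff.2 rfl⟩
  -- `A` is a Sylow subgroup of the centralizer
  have hsyl : ¬ 2 ∣ A.relIndex C := by
    have hAC : A ≤ C := inf_le_right
    obtain ⟨Q, hQ⟩ := ((R.2.to_le inf_le_left : IsPGroup 2 A).comap_of_injective C.subtype C.subtype_injective).exists_le_sylow
    have hQA : (Q : Subgroup C).map C.subtype = A := by
      set B := (Q : Subgroup C).map C.subtype with hB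
      have hAB : A ≤ B := fun a ha => ⟨⟨a, hAC ha⟩, hQ ha, rfl⟩
      by_contra hne'
      have hlt : Nat.card A < Nat.card B := lt_of_le_of_ne (Subgroup.card_le_of_le hAB)
        (fun e => hne' (Subgroup.eq_of_le_of_card_ge hAB e.ge).symm)
      obtain ⟨P, hP⟩ := (Q.2.map C.subtype : IsPGroup 2 B).exists_le_sylow
      obtain ⟨h, hh⟩ := MulAction.exists_smul_eq M P R
      have hBR : ∀ b ∈ B, h⁻¹⁻¹ * b * h⁻¹ ∈ (R : Subgroup M) := fun b hb => by
        rw [inv_inv, ← hh, Sylow.coe_subgroup_smul]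
        exact ⟨b, hP hb, rfl⟩
      obtain ⟨g', hg', hgA⟩ := hchain h⁻¹ fun a ha => hBR a (hAB ha)
      set r' := g'⁻¹ * r * g' with hr'
      have hr'R : r' ∈ (R : Subgroup M) := by rw [hr', hgA r hrA]; exact hBR r (hAB hrA)
      have hbad : r' ∈ Bad := by
        refine ⟨hr'R, fun e => hr1 ?_, ?_, g'⁻¹ * x, ?_⟩
        · rw [show r = g' * r' * g'⁻¹ by rw [hr']; group, e]; group
        · rw [hr', show g'⁻¹ * r * g' * (g'⁻¹ * r * g') = g'⁻¹ * (r * r) * g' by group, hrr]; group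
        · rw [hconj _ (F.inv_mem hg'), hx, hr', inv_inv]
      have hle := hmax r' hbad
      have hsub : B.map (MulAut.conj h).toMonoidHom ≤ (R : Subgroup M) ⊓ Subgroup.centralizer ({r'} : Set M) := by
        rintro _ ⟨b, hb, rfl⟩
        show h * b * h⁻¹ ∈ _
        refine ⟨by have := hBR b hb; rwa [inv_inv] at this, Subgroup.mem_centralizer_singleton_iff.2 ?_⟩
        obtain ⟨⟨c, hc⟩, -, rfl⟩ := hb
        have hcr : c * r = r * c := Subgroup.mem_centralizer_singleton_iff.1 hc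
        show h * c * h⁻¹ * r' = r' * (h * c * h⁻¹)
        rw [hr', hgA r hrA]
        calc h * c * h⁻¹ * (h⁻¹⁻¹ * r * h⁻¹) = h * (c * r) * h⁻¹ := by group
          _ = h * (r * c) * h⁻¹ := by rw [hcr]
          _ = _ := by group
      have := Subgroup.card_le_of_le hsub
      rw [card_map_of_injective (MulAut.conj h).injective] at this
      omega
    have := Q.not_dvd_index
    rwa [← hQA, Subgroup.relIndex, Subgroup.subgroupOf, comap_map_eq_self_of_injective C.subtype_injective]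
  have hCtop : C ≠ ⊤ := fun htop => hr1 (by
    haveI : (Subgroup.zpowers r).Normal := ⟨fun z hz g => by
      have hg : g * z = z * g := by
        obtain ⟨i, rfl⟩ := hz
        exact (show Commute g r from Subgroup.mem_centralizer_singleton_iff.1 (htop ▸ Subgroup.mem_top g : g ∈ C)).zpow_right i
      rw [hg, mul_inv_cancel_right]; exact hz⟩
    have : Subgroup.zpowers r ≤ pCore 2 M :=
      FittingCores.le_pCore inferInstance (R.2.to_le (Subgroup.zpowers_le.2 hrR))
    rw [h2] at this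
    exact Subgroup.mem_bot.1 (this (Subgroup.mem_zpowers r)))
  have hinvC : ∀ l, ∀ c ∈ C, φ l c ∈ C := fun l c hc => by
    rw [hC, Subgroup.mem_centralizer_singleton_iff] at hc ⊢
    have := congrArg (φ l) hc
    rwa [map_mul, map_mul, hfix l r hrR] at this
  have hcore := apply_sub (hM C hCtop) φ hinvC (R.2.to_le inf_le_left) inf_le_right hsyl
    (fun l y hy => hfix l y hy.1) k
  -- bring `A` back into R through x
  have hAF : A.map (MulAut.conj x⁻¹).toMonoidHom ≤ F := by
    rintro _ ⟨a, ha, rfl⟩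
    show φ k (x⁻¹ * a * x⁻¹⁻¹) = x⁻¹ * a * x⁻¹⁻¹
    have hkx : φ k x = r⁻¹ * x := by rw [← hx]; group
    have har : a * r = r * a := Subgroup.mem_centralizer_singleton_iff.1 ha.2
    rw [inv_inv, map_mul, map_mul, map_inv, hfix k a ha.1, hkx]
    calc (r⁻¹ * x)⁻¹ * a * (r⁻¹ * x) = x⁻¹ * (r * a) * r⁻¹ * x := by group
      _ = x⁻¹ * (a * r) * r⁻¹ * x := by rw [har]
      _ = _ := by group
  obtain ⟨f, hf, hfR⟩ := hsylF _ ((R.2.to_le inf_le_left : IsPGroup 2 A).map _) hAF
  set g := x * f⁻¹ with hg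
  obtain ⟨g', hg', hgA⟩ := hchain g fun a ha => by
    have := hfR _ ⟨a, ha, rfl⟩
    rw [hg, show (x * f⁻¹)⁻¹ * a * (x * f⁻¹) = f * (x⁻¹ * a * x⁻¹⁻¹) * f⁻¹ by group]
    exact this
  set c := g * g'⁻¹ with hc
  have hcC : c ∈ C := by
    rw [hC, Subgroup.mem_centralizer_singleton_iff, hc]
    have h1 := hgA r hrA
    calc g * g'⁻¹ * r = g * (g'⁻¹ * r * g') * g'⁻¹ := by group
      _ = g * (g⁻¹ * r * g) * g'⁻¹ := by rw [h1]
      _ = r * (g * g'⁻¹) := by group
  have hcr : c * (φ k c)⁻¹ = r := by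
    rw [hc, map_mul, map_inv, hg', ← hx, hg, map_mul, map_inv, (mem_fixed φ).1 hf]
    group
  have hrO : r ∈ (pPrimeCore 2 ↥C).map C.subtype := by
    rw [← hcr, show c * (φ k c)⁻¹ = (φ k c * c⁻¹)⁻¹ by group]
    exact Subgroup.inv_mem _ (hcore c hcC)
  refine hr1 ?_
  rw [← orderOf_eq_one_iff]
  exact Nat.eq_one_of_dvd_coprimes
    (Cfsg.Agent.PBasic.coprime_orderOf_of_mem
      (show (Nat.card ((pPrimeCore 2 ↥C).map C.subtype)).Coprime 2 by
        rw [card_map_of_injective C.subtype_injective]; exact FittingCores.pPrimeCore_coprime 2) hrO)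
    dvd_rfl (orderOf_dvd_of_pow_eq_one (by rw [pow_two]; exact hrr))

end Cfsg.Agent.LBalance
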