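/-
Glauberman: the induction.
-/
import Cfsg.Agent.Lib.LBalance.Fixed

set_option autoImplicit false

namespace Cfsg.Agent.LBalance

open Subgroup Cfsg.Agent.Components
open scoped commutatorElement

universe u v

variable {L : Type v} [Group L]

/-- The image of a core under an automorphism. -/
theorem map_core {M : Type u} [Group M] [Finite M] (a : MulAut M) :
    (pPrimeCore 2 M).map a.toMonoidHom = pPrimeCore 2 M :=
  Cfsg.Agent.FittingCores.pPrimeCore_map_equiv 2 a

/-- A perfect group generated by 2-elements fixing a Sylow 2-subgroup acts trivially modulo the odd core. -/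
theorem core_of_fixed (hperf : commutator L = ⊤) (hgen : pGen 2 (⊤ : Subgroup L) = ⊤) :
    ∀ (n : ℕ) (M : Type u) [Group M] [Finite M], Nat.card M = n → Statement M L := by
  intro n
  induction n using Nat.strong_induction_on with
  | _ n ih =>
  intro M _ _ hn
  subst hn
  haveI : Fact (Nat.Prime 2) := ⟨Nat.prime_two⟩
  intro φ R hfix
  haveI hOn := FittingCores.pPrimeCore_normal (G := M) 2
  have hsub : ∀ N : Subgroup M, N ≠ ⊤ → Statement ↥N L := fun N hN =>
    ih _ (lt_of_le_of_ne (Subgroup.card_le_card_group N) (fun e => hN (Subgroup.eq_top_of_card_eq N e))) ↥N rfl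
  by_cases hO : pPrimeCore 2 M = ⊥
  swap
  · set O := pPrimeCore 2 M with hOdef
    have hlt : Nat.card (M ⧸ O) < Nat.card M := by
      rw [Subgroup.card_eq_card_quotient_mul_card_subgroup O]
      exact lt_mul_of_one_lt_right Nat.card_pos (Subgroup.one_lt_card_iff_ne_bot _ |>.2 hO)
    intro l m
    have h := ih _ hlt (M ⧸ O) rfl (quotHom φ O fun k => map_core (φ k))
      (R.mapSurjective (QuotientGroup.mk'_surjective O))
      (by
        intro k x hx
        rw [Sylow.coe_mapSurjective] at hx
        obtain ⟨y, hy, rfl⟩ := hx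
        show (QuotientGroup.mk (φ k y) : M ⧸ O) = QuotientGroup.mk y
        rw [hfix k y hy]) l (QuotientGroup.mk m)
    rw [pPrimeCore_quotient, Subgroup.mem_bot] at h
    exact (QuotientGroup.eq_one_iff _).1 h
  suffices htriv : ∀ l m, φ l m = m by
    intro l m
    rw [htriv l m, mul_inv_cancel]
    exact one_mem _
  by_cases h2 : pCore 2 M = ⊥
  swap
  · set Z := pCore 2 M with hZdef
    haveI hZn : Z.Normal := FittingCores.pCore_normal (G := M) 2
    have hZR : Z ≤ (R : Subgroup M) := Cfsg.Agent.PBasic.pCore_le_sylow R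
    have hZfix : ∀ l, ∀ z ∈ Z, φ l z = z := fun l z hz => hfix l z (hZR hz)
    set C := Subgroup.centralizer (Z : Set M) with hC
    haveI hCn : C.Normal := Subgroup.normal_centralizer
    have hδC : ∀ l m, φ l m * m⁻¹ ∈ C := by
      intro l m
      rw [hC, Subgroup.mem_centralizer_iff]
      intro z hz
      have h1 : m⁻¹ * z * m ∈ Z := by simpa using hZn.conj_mem z hz m⁻¹
      have h2 := hZfix l _ h1
      rw [map_mul, map_mul, map_inv, hZfix l z hz] at h2
      calc z * (φ l m * m⁻¹) = φ l m * ((φ l m)⁻¹ * z * φ l m) * m⁻¹ := by group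
        _ = φ l m * (m⁻¹ * z * m) * m⁻¹ := by rw [h2]
        _ = _ := by group
    by_cases hCt : C = ⊤
    · -- the core is central
      have hZc : ∀ z ∈ Z, ∀ x : M, z * x = x * z := fun z hz x =>
        Subgroup.mem_centralizer_iff.1 (show x ∈ C by rw [hCt]; exact Subgroup.mem_top x) z hz
      have hlt : Nat.card (M ⧸ Z) < Nat.card M := by
        rw [Subgroup.card_eq_card_quotient_mul_card_subgroup Z]
        exact lt_mul_of_one_lt_right Nat.card_pos (Subgroup.one_lt_card_iff_ne_bot _ |>.2 h2)
      have hq := ih _ hlt (M ⧸ Z) rfl (quotHom φ Z fun k => by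
          ext y
          constructor
          · rintro ⟨z, hz, rfl⟩
            show φ k z ∈ Z
            rwa [hZfix k z hz]
          · exact fun hy => ⟨y, hy, hZfix k y hy⟩)
        (R.mapSurjective (QuotientGroup.mk'_surjective Z)) (by
          intro k x hx
          rw [Sylow.coe_mapSurjective] at hx
          obtain ⟨y, hy, rfl⟩ := hx
          show (QuotientGroup.mk (φ k y) : M ⧸ Z) = QuotientGroup.mk y
          rw [hfix k y hy])
      haveI hPn := FittingCores.pPrimeCore_normal (G := M ⧸ Z) 2
      set P := (pPrimeCore 2 (M ⧸ Z)).comap (QuotientGroup.mk' Z) with hP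
      have hZP : Z ≤ P := fun z hz => by
        rw [hP, Subgroup.mem_comap, show QuotientGroup.mk' Z z = 1 from (QuotientGroup.eq_one_iff z).2 hz]
        exact one_mem _
      have hPZ : P ≤ Z := by
        set Z' := Z.subgroupOf P with hZ'
        haveI : Z'.Normal := Subgroup.normal_subgroupOf
        have hcard : Nat.card Z' = Nat.card Z := Nat.card_congr (Subgroup.subgroupOfEquivOfLe hZP).toEquiv
        have hidx : Z'.index = Nat.card (pPrimeCore 2 (M ⧸ Z)) := by
          change Z.relIndex P = _
          conv_lhs => rw [show Z = (⊥ : Subgroup (M ⧸ Z)).comap (QuotientGroup.mk' Z) by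
            rw [MonoidHom.comap_bot, QuotientGroup.ker_mk']]
          rw [Subgroup.relIndex_comap, hP, Subgroup.map_comap_eq_self_of_surjective
            (QuotientGroup.mk'_surjective Z), Subgroup.relIndex_bot_left]
        have hcop : Nat.Coprime (Nat.card Z') Z'.index := by
          obtain ⟨e, he⟩ := IsPGroup.iff_card.1 (FittingCores.pCore_isPGroup (G := M) 2)
          rw [hcard, hidx, he]
          exact (FittingCores.pPrimeCore_coprime (G := M ⧸ Z) 2).symm.pow_left e
        obtain ⟨H, hH⟩ := Subgroup.exists_left_complement'_of_coprime hcop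
        have hHodd : (Nat.card (H.map P.subtype)).Coprime 2 := by
          rw [card_map_of_injective P.subtype_injective, ← hH.index_eq_card, hidx]
          exact FittingCores.pPrimeCore_coprime 2
        -- the complement consists of all elements of odd order
        have hHodd_mem : ∀ y ∈ P, (orderOf y).Coprime 2 → y ∈ H.map P.subtype := by
          intro y hy ho
          obtain ⟨⟨a, b⟩, hab⟩ := hH.2 ⟨y, hy⟩
          have hab' : ((a : P) : M) * ((b : P) : M) = y := congrArg Subtype.val hab
          have hb : ((b : P) : M) ∈ Z := b.2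
          suffices ((b : P) : M) = 1 by
            rw [← hab', this, mul_one]
            exact ⟨(a : P), a.2, rfl⟩
          obtain ⟨e, he⟩ := (FittingCores.pCore_isPGroup (G := M) 2) ⟨_, hb⟩
          have he' : ((b : P) : M) ^ 2 ^ e = 1 := congrArg Subtype.val he
          have hcomm : Commute ((b : P) : M) y := hZc _ hb y
          have hbd : ((b : P) : M) = ((a : P) : M)⁻¹ * y := by rw [← hab']; group
          have hn : ((b : P) : M) ^ (Nat.card H * orderOf y) = 1 := by
            have hca : Commute ((a : P) : M)⁻¹ y := by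
              rw [show ((a : P) : M)⁻¹ = ((b : P) : M) * y⁻¹ by rw [← hab']; group]
              exact (hcomm.mul_left (Commute.inv_left (Commute.refl y)))
            rw [hbd, hca.mul_pow, pow_mul, pow_mul', pow_orderOf_eq_one, one_pow, mul_one, inv_pow,
              show ((a : P) : M) ^ Nat.card H = 1 from congrArg (fun t : H => ((t : P) : M)) (pow_card_eq_one' (x := a)),
              inv_one, one_pow]
          rw [← orderOf_eq_one_iff]
          refine Nat.eq_one_of_dvd_coprimes ?_ (orderOf_dvd_of_pow_eq_one he') (orderOf_dvd_of_pow_eq_one hn)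
          refine Nat.Coprime.pow_left _ (Nat.Coprime.mul_right ?_ ho.symm)
          rw [← hH.index_eq_card, hidx]
          exact (FittingCores.pPrimeCore_coprime (G := M ⧸ Z) 2).symm
        have hHn : (H.map P.subtype).Normal := ⟨fun y hy g => by
          refine hHodd_mem _ ((hPn.comap _).conj_mem y (Subgroup.map_subtype_le _ hy) g) ?_
          rw [← MulAut.conj_apply, MulEquiv.orderOf_eq]
          exact Cfsg.Agent.PBasic.coprime_orderOf_of_mem hHodd hy⟩
        have hHb : H = ⊥ := by
          have : H.map P.subtype ≤ ⊥ := hO ▸ FittingCores.le_pPrimeCore hHn hHodd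
          exact (Subgroup.map_eq_bot_iff_of_injective H P.subtype_injective).1 (le_bot_iff.1 this)
        intro y hy
        obtain ⟨⟨a, b⟩, hab⟩ := hH.2 ⟨y, hy⟩
        have ha1 : (a : P) = 1 := Subgroup.mem_bot.1 (hHb ▸ a.2)
        have hab' : ((a : P) : M) * ((b : P) : M) = y := congrArg Subtype.val hab
        rw [← hab', ha1]
        simpa using Subgroup.mem_subgroupOf.1 b.2
      exact stab_trivial φ hperf Z (fun a ha b _ => hZc a ha b) hZfix fun l m => hPZ (hq l (QuotientGroup.mk m))
    · -- the centraliser of the core is proper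
      have hinv : ∀ l, ∀ c ∈ C, φ l c ∈ C := fun l c hc => by
        rw [hC, Subgroup.mem_centralizer_iff] at hc ⊢
        intro z hz
        have := congrArg (φ l) (hc z hz)
        rwa [map_mul, map_mul, hZfix l z hz] at this
      have hidx : ¬ 2 ∣ ((R : Subgroup M) ⊓ C).relIndex C := by
        obtain ⟨Q, hQ⟩ := Cfsg.Agent.PBasic.exists_sylow_subgroupOf R C
        rw [Subgroup.inf_relIndex_right, Subgroup.relIndex, ← hQ]
        exact Q.not_dvd_index
      have hfixC : ∀ l, ∀ c ∈ C, φ l c = c := by
        intro l c hc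
        have h1 := apply_sub (hsub C hCt) φ hinv (R.2.to_le inf_le_left) inf_le_right hidx
          (fun k x hx => hfix k x hx.1) l c hc
        have h3 : (pPrimeCore 2 ↥C).map C.subtype ≤ pPrimeCore 2 M :=
          Cfsg.Agent.PBasic.map_pPrimeCore_le_of_normal C
        have := h3 h1
        rw [hO, Subgroup.mem_bot] at this
        exact mul_inv_eq_one.1 this
      refine stab_trivial φ hperf (C ⊓ Subgroup.centralizer (C : Set M))
        (fun a ha b hb => Subgroup.mem_centralizer_iff.1 hb.2 a ha.1) (fun l z hz => hfixC l z hz.1) fun l m => ?_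
      refine ⟨hδC l m, Subgroup.mem_centralizer_iff.2 fun c hc => ?_⟩
      have h1 : m⁻¹ * c * m ∈ C := by simpa using hCn.conj_mem c hc m⁻¹
      have h2 := hfixC l _ h1
      rw [map_mul, map_mul, map_inv, hfixC l c hc] at h2
      calc c * (φ l m * m⁻¹) = φ l m * ((φ l m)⁻¹ * c * φ l m) * m⁻¹ := by group
        _ = φ l m * (m⁻¹ * c * m) * m⁻¹ := by rw [h2]
        _ = _ := by group
  -- both cores trivial
  by_contra hcon
  push Not at hcon
  obtain ⟨l₀, m₀, hlm⟩ := hcon
  have hkne : φ.ker ≠ ⊤ := fun h => hlm (by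
    have : φ l₀ = 1 := (MonoidHom.mem_ker).1 (h ▸ Subgroup.mem_top l₀)
    rw [this]; rfl)
  obtain ⟨x, ⟨k, hxk⟩, hxker⟩ : ∃ x : L, (∃ k, x ^ 2 ^ k = 1) ∧ x ∉ φ.ker := by
    by_contra hn
    push Not at hn
    apply hkne
    rw [eq_top_iff, ← hgen]
    exact (Subgroup.closure_le _).2 fun x ⟨_, hx⟩ => hn x hx
  have hne1 : φ x ≠ 1 := hxker
  obtain ⟨j, -, hj⟩ := (Nat.dvd_prime_pow Nat.prime_two).1
    (orderOf_dvd_of_pow_eq_one (by rw [← map_pow, hxk, map_one] : φ x ^ 2 ^ k = 1))
  obtain ⟨i, rfl⟩ : ∃ i, j = i + 1 := Nat.exists_eq_succ_of_ne_zero fun h0 => by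
    rw [h0, pow_zero, orderOf_eq_one_iff] at hj
    exact hne1 hj
  set l := x ^ 2 ^ i with hl
  have hu : orderOf (φ l) = 2 := by
    rw [hl, map_pow, orderOf_pow' _ (by positivity), hj, Nat.gcd_eq_right (pow_dvd_pow 2 (Nat.le_succ i)),
      pow_succ, Nat.mul_div_cancel_left _ (by positivity)]
  set u := φ l with hudef
  have hkk : ∀ y, u (u y) = y := fun y => by
    have : u * u = 1 := by rw [← pow_two, ← hu, pow_orderOf_eq_one]
    exact congrArg (fun a : MulAut M => a y) this
  set c := (MulAut.conj : M →* MulAut M) with hc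
  have hcinj : Function.Injective c := by
    rw [← MonoidHom.ker_eq_bot_iff, ← le_bot_iff, ← h2]
    -- a central subgroup
    have hk : c.ker ≤ Subgroup.center M := fun y hy => Subgroup.mem_center_iff.2 fun g => by
      have := congrArg (fun a : MulAut M => a g) ((MonoidHom.mem_ker).1 hy)
      simp only [hc, MulAut.conj_apply, MulAut.one_apply] at this
      exact (mul_inv_eq_iff_eq_mul.1 this).symm
    refine hk.trans ?_
    intro y hy
    have hn : ∀ z ∈ Subgroup.center M, (Subgroup.zpowers z).Normal := fun z hz => ⟨fun w hw g => by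
      rw [Subgroup.mem_center_iff.1 ((Subgroup.zpowers_le.2 hz) hw) g, mul_inv_cancel_right]
      exact hw⟩
    have hcop : (orderOf y).Coprime 2 := by
      refine (Nat.Prime.coprime_iff_not_dvd Nat.prime_two).2 (fun hd => ?_) |>.symm
      set z := y ^ (orderOf y / 2) with hzdef
      have hz : z * z = 1 := by
        rw [hzdef, ← pow_add, ← two_mul, Nat.mul_div_cancel' hd, pow_orderOf_eq_one]
      have hzne : z ≠ 1 := fun e => by
        have := Nat.le_of_dvd (by have := orderOf_pos y; omega) (orderOf_dvd_of_pow_eq_one e)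
        have := orderOf_pos y
        omega
      have := FittingCores.le_pCore (p := 2) (hn z (Subgroup.pow_mem _ hy _)) (IsPGroup.of_card (n := 1) (by
        rw [Nat.card_zpowers, orderOf_eq_prime (p := 2) (by rw [pow_two]; exact hz) hzne, pow_one]))
      rw [h2] at this
      exact hzne (Subgroup.mem_bot.1 (this (Subgroup.mem_zpowers z)))
    have := FittingCores.le_pPrimeCore (p := 2) (hn y hy) (by rwa [Nat.card_zpowers])
    rw [hO] at this
    exact h2.symm ▸ this (Subgroup.mem_zpowers y)
  have huc : ∀ g, u * c g * u⁻¹ = c (u g) := by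
    intro g
    ext y
    show u (g * u⁻¹ y * g⁻¹) = u g * y * (u g)⁻¹
    rw [map_mul, map_mul, map_inv]
    congr 2
    exact u.apply_symm_apply y
  set I := c.range with hI
  set U := Subgroup.zpowers u with hU
  have hUI : U ≤ Subgroup.normalizer (I : Set (MulAut M)) := Subgroup.zpowers_le.2 (by
    refine Cfsg.Agent.FusionSys.mem_normalizer_of_conj_mem_finite fun w hw => ?_
    obtain ⟨g, rfl⟩ := hw
    exact ⟨u g, (huc g).symm⟩)
  set X := I ⊔ U with hX
  haveI : Finite (MulAut M) := inferInstance
  haveI hIX : (I.subgroupOf X).Normal :=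
    (Subgroup.normal_subgroupOf_iff_le_normalizer le_sup_left).2 (sup_le Subgroup.le_normalizer hUI)
  set uX : X := ⟨u, Subgroup.mem_sup_right (Subgroup.mem_zpowers u)⟩ with huX
  have hmem : ∀ w : X, ∃ g, ∃ j : ℤ, (w : MulAut M) = c g * u ^ j := by
    intro w
    have hw : (w : MulAut M) ∈ I ⊔ U := w.2
    obtain ⟨a, ha, b, hb, hab⟩ := Cfsg.Agent.SolvBasic.mem_sup_iff_of_le_normalizer hUI |>.1 hw
    obtain ⟨g, rfl⟩ := ha
    obtain ⟨j, rfl⟩ := hb
    exact ⟨g, j, hab⟩
  have hiso : Cfsg.IsIsolated uX := by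
    intro w hw
    obtain ⟨g, j, hgj⟩ := hmem w
    have hconj : ((w * uX * w⁻¹ : X) : MulAut M) = c (g * (u g)⁻¹) * u := by
      simp only [Subgroup.coe_mul, Subgroup.coe_inv, huX, hgj]
      rw [show c g * u ^ j * u * (c g * u ^ j)⁻¹ = c g * (u * (c g)⁻¹ * u⁻¹) * u by group, ← map_inv, huc,
        map_inv, map_mul]
    apply Subtype.ext
    rw [hconj]
    have h1 : u * (c (g * (u g)⁻¹) * u) = c (g * (u g)⁻¹) * u * u := by
      have := congrArg Subtype.val hw.eq
      simpa only [Subgroup.coe_mul, hconj] using this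
    have h2' : u (g * (u g)⁻¹) = g * (u g)⁻¹ := hcinj (by
      rw [← huc]
      calc u * c (g * (u g)⁻¹) * u⁻¹ = u * (c (g * (u g)⁻¹) * u) * u⁻¹ * u⁻¹ := by group
        _ = c (g * (u g)⁻¹) * u * u * u⁻¹ * u⁻¹ := by rw [h1]
        _ = _ := by group)
    rw [no_shift φ hsub hO h2 R hfix hkk h2', map_one, one_mul]
  have hordX : orderOf uX = 2 := by rw [← Subgroup.orderOf_coe]; exact hu
  have hz := Cfsg.Agent.BrauerSuzuki.zStar X uX hordX hiso
  have hOX : pPrimeCore 2 X = ⊥ := by
    haveI := FittingCores.pPrimeCore_normal (G := X) 2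
    set P := (pPrimeCore 2 X).map X.subtype with hP
    have hPc : (Nat.card P).Coprime 2 := by
      rw [hP, card_map_of_injective X.subtype_injective]; exact FittingCores.pPrimeCore_coprime 2
    have hint : P.comap c = ⊥ := by
      have hn : (P.comap c).Normal := ⟨fun y hy g => by
        obtain ⟨w, hw, hwy⟩ := hy
        refine ⟨⟨c g, Subgroup.mem_sup_left ⟨g, rfl⟩⟩ * w * ⟨c g, Subgroup.mem_sup_left ⟨g, rfl⟩⟩⁻¹,
          (inferInstance : (pPrimeCore 2 X).Normal).conj_mem w hw _, ?_⟩
        rw [map_mul, map_mul, map_inv, hwy, map_mul, map_mul, map_inv]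
        rfl⟩
      have := FittingCores.le_pPrimeCore (p := 2) hn (hPc.coprime_dvd_left (Subgroup.card_comap_dvd_of_injective P c hcinj))
      rwa [hO, le_bot_iff] at this
    rw [eq_bot_iff]
    intro w hw
    rw [Subgroup.mem_bot]
    obtain ⟨g, j, hgj⟩ := hmem w
    -- the square is inner
    have hsq : ((w : MulAut M)) * w ∈ I := by
      rw [hgj]
      refine ⟨g * (u ^ j) g, ?_⟩
      rw [map_mul]
      have h2j : u ^ j * u ^ j = 1 := by
        rw [← zpow_add, show j + j = 2 * j by ring, zpow_mul, zpow_two]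
        rw [show u * u = 1 by rw [← pow_two, ← hu, pow_orderOf_eq_one], one_zpow]
      have e : c ((u ^ j) g) = u ^ j * c g * (u ^ j)⁻¹ := by
        ext y
        show (u ^ j) g * y * ((u ^ j) g)⁻¹ = (u ^ j) (g * (u ^ j)⁻¹ y * g⁻¹)
        rw [map_mul, map_mul, map_inv]
        congr 2
        exact ((u ^ j).apply_symm_apply y).symm
      rw [e]
      calc c g * (u ^ j * c g * (u ^ j)⁻¹) = c g * u ^ j * c g * (u ^ j)⁻¹ * (u ^ j * u ^ j) := by simp only [h2j, mul_one, mul_assoc]
        _ = _ := by group
    obtain ⟨y, hy⟩ := hsq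
    have hyP : y ∈ P.comap c := by
      refine ⟨w * w, mul_mem hw hw, ?_⟩
      exact hy.symm
    rw [hint, Subgroup.mem_bot] at hyP
    rw [hyP, map_one] at hy
    have hww : w * w = 1 := Subtype.ext hy.symm
    rw [← orderOf_eq_one_iff]
    exact Nat.eq_one_of_dvd_coprimes
      (Cfsg.Agent.PBasic.coprime_orderOf_of_mem (FittingCores.pPrimeCore_coprime (G := X) 2) hw)
      dvd_rfl (orderOf_dvd_of_pow_eq_one (by rw [pow_two]; exact hww))
  have hu1 : u = 1 := by
    ext g
    have h1 := hz ⟨c g, Subgroup.mem_sup_left ⟨g, rfl⟩⟩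
    rw [hOX, Subgroup.mem_bot] at h1
    have h2' := congrArg Subtype.val (mul_inv_eq_one.1 h1)
    simp only [Subgroup.coe_mul, Subgroup.coe_inv, huX] at h2'
    have h3 : u * c g * u⁻¹ = c g := by
      calc u * c g * u⁻¹ = (c g * u * (c g)⁻¹) * c g * u⁻¹ := by rw [h2']
        _ = _ := by group
    rw [huc] at h3
    exact hcinj h3
  rw [hu1, orderOf_one] at hu
  exact absurd hu (by norm_num)

end Cfsg.Agent.LBalance
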