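/-
A 2-component of the centralizer of a 2-group which normalizes a component acts on it by inner automorphisms.
-/
import Cfsg.Agent.Lib.LBalance.Core
import Cfsg.Agent.Lib.Techniques.PConstrained

set_option autoImplicit false
set_option linter.style.haveILetI false

namespace Cfsg.Agent.LBalance

open Subgroup Cfsg.Agent.Components Cfsg.Agent.BpBalance
open scoped commutatorElement

universe u

variable {G : Type u} [Group G] [Finite G]

/-- A subgroup generated by 2-elements inside a normal subgroup times an odd one. -/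
theorem pGen_absorb {H : Subgroup G} {I O : Subgroup G} (hI : I ≤ H) (hIn : H ≤ normalizer (I : Set G))
    (hO : O ≤ H) (hodd : (Nat.card O).Coprime 2) {L : Subgroup G} (hgen : L ≤ pGen 2 L) (hL : L ≤ I ⊔ O) :
    L ≤ I := by
  refine hgen.trans ((pGen_mono hL).trans (pGen_le_of_normal le_sup_left ?_ ?_))
  · exact (normal_subgroupOf_iff_le_normalizer le_sup_left).2 ((sup_le hI hO).trans hIn)
  · have h1 : I.relIndex (I ⊔ O) = I.relIndex O := by
      set N := normalizer (I : Set G) with hN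
      have hON : O ≤ N := hO.trans hIn
      haveI : (I.subgroupOf N).Normal := normal_in_normalizer
      have := Subgroup.relIndex_sup_right (H := O.subgroupOf N) (K := I.subgroupOf N)
      rw [← subgroupOf_sup hON le_normalizer, relIndex_subgroupOf (sup_le hON le_normalizer),
        relIndex_subgroupOf hON, sup_comm] at this
      exact this
    rw [h1]
    exact hodd.coprime_dvd_left (relIndex_dvd_card _ _)

omit [Finite G] in
/-- The inner subgroup is normalised by the normalizer of the component. -/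
theorem le_normalizer_innerOn (K : Subgroup G) : normalizer (K : Set G) ≤ normalizer (innerOn K : Set G) := by
  intro g hg
  have hmem : ∀ h ∈ normalizer (K : Set G), ∀ x ∈ innerOn K, h * x * h⁻¹ ∈ innerOn K := by
    rintro h hh x ⟨k, hk, hc⟩
    refine ⟨h * k * h⁻¹, (mem_normalizer_iff.1 hh k).1 hk, ?_⟩
    rw [show (h * k * h⁻¹)⁻¹ * (h * x * h⁻¹) = h * (k⁻¹ * x) * h⁻¹ by group, mem_centralizer_iff]
    intro y hy
    have h1 : h⁻¹ * y * h ∈ K := (mem_normalizer_iff''.1 hh y).1 hy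
    calc y * (h * (k⁻¹ * x) * h⁻¹) = h * (h⁻¹ * y * h * (k⁻¹ * x)) * h⁻¹ := by group
      _ = h * (k⁻¹ * x * (h⁻¹ * y * h)) * h⁻¹ := by rw [mem_centralizer_iff.1 hc _ h1]
      _ = _ := by group
  refine mem_normalizer_iff.2 fun x => ⟨fun hx => hmem g hg x hx, fun hx => ?_⟩
  have := hmem g⁻¹ (inv_mem hg) _ hx
  rwa [show g⁻¹ * (g * x * g⁻¹) * g⁻¹⁻¹ = x by group] at this

/-- The base case: the component's Sylow subgroup is centralised. -/
theorem le_centralizer_of_sylow {K : Subgroup G} (hKp : ⁅K, K⁆ = K)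
    (hOq : pPrimeCore 2 (↥K ⧸ center ↥K) = ⊥) {L : Subgroup G}
    (hperf : ⁅L, L⁆ = L) (hgen : L ≤ pGen 2 L) (hLN : L ≤ normalizer (K : Set G)) (T : Sylow 2 ↥K)
    (hT : ∀ l ∈ L, ∀ x ∈ (T : Subgroup ↥K), l * (x : G) = x * l) : L ≤ centralizer (K : Set G) := by
  haveI : Fact (Nat.Prime 2) := ⟨Nat.prime_two⟩
  haveI : Group.IsPerfect ↥K := Subgroup.isPerfect_iff.2 hKp
  let φ : ↥L →* MulAut (↥K ⧸ center ↥K) := ((autCentral ↥K).comp K.normalizerMonoidHom).comp (inclusion hLN)
  have hφ : ∀ (l : L) (k : K), φ l (QuotientGroup.mk k) =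
      QuotientGroup.mk ⟨(l : G) * k * (l : G)⁻¹, (mem_normalizer_iff.1 (hLN l.2) _).1 k.2⟩ := fun l k => rfl
  have hp : _root_.commutator ↥L = ⊤ := by
    apply map_injective L.subtype_injective
    rw [map_subtype_commutator, hperf, ← MonoidHom.range_eq_map, range_subtype]
  have hg : pGen 2 (⊤ : Subgroup ↥L) = ⊤ := by
    rw [eq_top_iff]
    have := le_pGen_comap L.subtype L.subtype_injective (K := L) (by rw [range_subtype]) hgen
    rwa [show L.comap L.subtype = ⊤ from subgroupOf_self L] at this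
  have key := core_of_fixed hp hg _ (↥K ⧸ center ↥K) rfl φ
    (T.mapSurjective (QuotientGroup.mk'_surjective (center ↥K))) (by
      intro l x hx
      rw [Sylow.coe_mapSurjective] at hx
      obtain ⟨y, hy, rfl⟩ := hx
      rw [QuotientGroup.mk'_apply, hφ]
      congr 1
      apply Subtype.ext
      show (l : G) * y * (l : G)⁻¹ = y
      rw [hT l l.2 y hy, mul_inv_cancel_right])
  rw [hOq] at key
  have hLK : ⁅L, K⁆ ≤ (center ↥K).map K.subtype := by
    rw [commutator_le]
    intro l hl k hk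
    have h1 := key ⟨l, hl⟩ (QuotientGroup.mk ⟨k, hk⟩)
    rw [mem_bot, hφ, ← QuotientGroup.mk_inv, ← QuotientGroup.mk_mul, QuotientGroup.eq_one_iff] at h1
    exact ⟨_, h1, by simp [commutatorElement_def]⟩
  have hz : ⁅(center ↥K).map K.subtype, K⁆ = ⊥ := by
    rw [commutator_eq_bot_iff_le_centralizer]
    rintro _ ⟨z, hz, rfl⟩
    exact mem_centralizer_iff.2 fun y hy => congrArg Subtype.val (mem_center_iff.1 hz ⟨y, hy⟩)
  have h1 : ⁅⁅L, K⁆, K⁆ = ⊥ := le_bot_iff.1 ((commutator_mono hLK le_rfl).trans hz.le)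
  have h2 : ⁅⁅K, K⁆, L⁆ = ⊥ :=
    commutator_commutator_eq_bot_of_rotate (by rw [commutator_comm K L]; exact h1) h1
  rw [hKp, commutator_comm, commutator_eq_bot_iff_le_centralizer] at h2
  exact h2

/-- A 2-component of the centralizer of a 2-group normalizing `K` acts on `K` by inner automorphisms. -/
theorem le_innerOn_of_pcin {K : Subgroup G} (hKp : ⁅K, K⁆ = K) (hOq : pPrimeCore 2 (↥K ⧸ center ↥K) = ⊥) :
    ∀ (k : ℕ) (Q : Subgroup G), Nat.card G - Nat.card Q ≤ k → IsPGroup 2 Q → Q ≤ normalizer (K : Set G) →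
      ∀ L, PCIn 2 L (centralizer (Q : Set G) ⊓ normalizer (K : Set G)) → L ≤ innerOn K := by
  haveI : Fact (Nat.Prime 2) := ⟨Nat.prime_two⟩
  intro k
  induction k using Nat.strong_induction_on with
  | _ k ih =>
  intro Q hk hQ hQK L hL
  set J := Q ⊔ K with hJ
  have hJK : J ≤ normalizer (K : Set G) := sup_le hQK le_normalizer
  haveI hKJ : (K.subgroupOf J).Normal := (normal_subgroupOf_iff_le_normalizer le_sup_right).2 hJK
  obtain ⟨TJ, hTJ⟩ := (hQ.comap_of_injective J.subtype J.subtype_injective).exists_le_sylow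
  set T := (TJ : Subgroup J).map J.subtype with hT
  have hTp : IsPGroup 2 T := TJ.2.map J.subtype
  have hQT : Q ≤ T := fun x hx => ⟨⟨x, mem_sup_left hx⟩, hTJ hx, rfl⟩
  have hTle : T ≤ J := map_subtype_le _
  by_cases hTQ : T = Q
  · -- a Sylow subgroup of K inside Q
    obtain ⟨S, hS⟩ := Cfsg.Agent.PBasic.exists_sylow_subgroupOf TJ (K.subgroupOf J)
    let e := subgroupOfEquivOfLe (le_sup_right : K ≤ J)
    refine (le_centralizer_of_sylow hKp hOq hL.perfect hL.gen (fun l hl => (hL.le hl).2)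
      (S.mapSurjective (f := e.toMonoidHom) e.surjective) fun l hl x hx => ?_).trans
        fun x hx => ⟨1, one_mem _, by simpa using hx⟩
    change x ∈ (S : Subgroup _).map e.toMonoidHom at hx
    obtain ⟨y, hy, rfl⟩ := hx
    rw [hS] at hy
    have hyQ : ((y : J) : G) ∈ Q := hTQ.le ⟨(y : J), hy, rfl⟩
    exact (mem_centralizer_iff.1 (hL.le hl).1 _ hyQ).symm
  -- a larger 2-group
  have hlt : Q < T := lt_of_le_of_ne hQT (Ne.symm hTQ)
  obtain ⟨t, htT, htQ, htn⟩ : ∃ t ∈ T, t ∉ Q ∧ t ∈ normalizer (Q : Set G) := by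
    haveI := hTp.isNilpotent
    have h1 : Q.subgroupOf T < ⊤ := lt_top_iff_ne_top.2 fun h => hlt.not_ge (subgroupOf_eq_top.1 h)
    obtain ⟨t, ht, htn⟩ := SetLike.exists_of_lt (Group.normalizerCondition_of_isNilpotent _ h1)
    refine ⟨t, t.2, fun h => htn (mem_subgroupOf.2 h), ?_⟩
    refine Cfsg.Agent.FusionSys.mem_normalizer_of_conj_mem_finite fun x hx => ?_
    exact mem_subgroupOf.1 ((mem_normalizer_iff.1 ht ⟨x, hQT hx⟩).1 (mem_subgroupOf.2 hx))
  obtain ⟨c, hc, q, hq, hqc⟩ := (Cfsg.Agent.SolvBasic.mem_sup_iff_of_le_normalizer hQK).1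
    (by rw [sup_comm]; exact hTle htT)
  have hc' : c = t * q⁻¹ := by rw [hqc]; group
  have hcT : c ∈ T := hc' ▸ T.mul_mem htT (T.inv_mem (hQT hq))
  have hcn : c ∈ normalizer (Q : Set G) := hc' ▸ mul_mem htn (inv_mem (le_normalizer hq))
  have hcQ : c ∉ Q := fun h => htQ (hqc ▸ Q.mul_mem h hq)
  set Q' := Q ⊔ zpowers c with hQ'
  have hQ'T : Q' ≤ T := sup_le hQT (zpowers_le.2 hcT)
  have hQ'p : IsPGroup 2 Q' := hTp.to_le hQ'T
  have hQ'K : Q' ≤ normalizer (K : Set G) := sup_le hQK (zpowers_le.2 (le_normalizer hc))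
  have hk' : Nat.card G - Nat.card Q' < k := by
    have h1 : Q < Q' := lt_of_le_of_ne le_sup_left fun e => hcQ (e ▸ mem_sup_right (mem_zpowers c))
    have h2 : Nat.card Q < Nat.card Q' :=
      lt_of_le_of_ne (card_le_of_le h1.le) fun e => h1.ne (eq_of_le_of_card_ge h1.le e.ge)
    have := Subgroup.card_le_card_group Q'
    omega
  -- inside H
  set H := normalizer (Q : Set G) ⊓ normalizer (K : Set G) with hH
  have hCH : centralizer (Q : Set G) ⊓ normalizer (K : Set G) ≤ H := inf_le_inf_right _ (centralizer_le_normalizer _)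
  have hHn : H ≤ normalizer ((centralizer (Q : Set G) ⊓ normalizer (K : Set G) : Subgroup G) : Set G) :=
    (inf_le_inf (normalizer_le_normalizer_centralizer Q) le_normalizer).trans inf_normalizer_le_normalizer_inf
  have hLH : PCIn 2 L H := hL.up hCH hHn
  set D := K ⊓ normalizer (Q : Set G) with hD
  have hDH : D ≤ H := le_inf inf_le_right (inf_le_left.trans le_normalizer)
  have hDn : (D.subgroupOf H).Normal := (normal_subgroupOf_iff_le_normalizer hDH).2
    ((le_inf inf_le_right (inf_le_left.trans le_normalizer)).trans inf_normalizer_le_normalizer_inf)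
  rcases le_or_comm hLH.toComp hDn with h | h
  · exact fun x hx => ⟨x, (h (show (⟨x, hLH.le hx⟩ : H) ∈ L.subgroupOf H from hx) : x ∈ D).1, by simp⟩
  set L₀ := L.subgroupOf H with hL₀
  haveI hOn := FittingCores.pPrimeCore_normal (G := H) 2
  set f := QuotientGroup.mk' (pPrimeCore 2 H) with hf
  set U := Q'.subgroupOf H with hU
  have hQ'H : Q' ≤ H := sup_le (le_inf le_normalizer hQK) (zpowers_le.2 ⟨hcn, le_normalizer hc⟩)
  have hfU : L₀.map f ≤ centralizer (U.map f : Set (↥H ⧸ pPrimeCore 2 H)) := by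
    rintro _ ⟨x, hx, rfl⟩
    have hUc : U.map f ≤ centralizer ({f x} : Set (↥H ⧸ pPrimeCore 2 H)) := by
      rw [map_le_iff_le_comap]
      have hle : Q' ≤ ((centralizer ({f x} : Set (↥H ⧸ pPrimeCore 2 H))).comap f).map H.subtype := by
        refine sup_le (fun y hy => ⟨⟨y, hQ'H (mem_sup_left hy)⟩, ?_, rfl⟩)
          (zpowers_le.2 ⟨⟨c, hQ'H (mem_sup_right (mem_zpowers c))⟩, ?_, rfl⟩)
        · rw [SetLike.mem_coe, mem_comap, mem_centralizer_singleton_iff, ← map_mul, ← map_mul]
          exact congrArg f (Subtype.ext (mem_centralizer_iff.1 (hL.le hx).1 y hy))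
        · rw [SetLike.mem_coe, mem_comap, mem_centralizer_singleton_iff, ← commutatorElement_eq_one_iff_mul_comm,
            ← map_commutatorElement]
          refine (QuotientGroup.eq_one_iff _).2 ?_
          have := (pPrimeCore 2 H).inv_mem (h (commutator_mem_commutator hx
            (show (⟨c, hQ'H (mem_sup_right (mem_zpowers c))⟩ : H) ∈ D.subgroupOf H from ⟨hc, hcn⟩)))
          rwa [commutatorElement_inv] at this
      intro y hy
      obtain ⟨z, hz, hzy⟩ := hle (mem_subgroupOf.1 hy)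
      exact (Subtype.ext hzy : z = y) ▸ hz
    rw [mem_centralizer_iff]
    exact fun y hy => mem_centralizer_singleton_iff.1 (hUc hy)
  set X := centralizer (U : Set H) with hX
  set Xb := centralizer (U.map f : Set (↥H ⧸ pPrimeCore 2 H)) with hXb
  have hker : f.ker = pPrimeCore 2 H := QuotientGroup.ker_mk' _
  have hXmap : X.map f = Xb := Cfsg.Agent.PConstr.map_centralizer_eq f (QuotientGroup.mk'_surjective _)
    (by rw [hker]; exact FittingCores.pPrimeCore_coprime 2) (hQ'p.comap_of_injective H.subtype H.subtype_injective)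
  have hne : L₀.map f ≠ ⊥ := component_ne_bot hLH.toComp.2.1
  have hLb : PCIn 2 (L₀.map f) Xb := by
    have h1 := (pcin_top_iff.2 hLH.toComp).map f hne
    exact h1.mono hfU (by rw [← MonoidHom.range_eq_map]; exact le_of_le_of_eq le_top (MonoidHom.range_eq_top.2 (QuotientGroup.mk'_surjective _)).symm)
  -- the layer of X covers
  let r : X →* Xb := (f.comp X.subtype).codRestrict Xb fun x => hXmap.le (mem_map_of_mem f x.2)
  have hr : Function.Surjective r := by
    rintro ⟨y, hy⟩
    obtain ⟨x, hx, rfl⟩ := hXmap.ge hy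
    exact ⟨⟨x, hx⟩, rfl⟩
  haveI := FittingCores.pPrimeCore_normal (G := X) 2
  haveI := FittingCores.pPrimeCore_normal (G := Xb) 2
  have hle : pPrimeCore 2 X ≤ (pPrimeCore 2 Xb).comap r := map_le_iff_le_comap.1
    (FittingCores.le_pPrimeCore (Normal.map inferInstance r hr)
      ((FittingCores.pPrimeCore_coprime 2).coprime_dvd_left (card_map_dvd _ _)))
  have hkr : (Nat.card r.ker).Coprime 2 := by
    rw [← card_map_of_injective X.subtype_injective]
    refine (FittingCores.pPrimeCore_coprime (G := H) 2).coprime_dvd_left (card_dvd_of_le ?_)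
    rintro _ ⟨x, hx, rfl⟩
    exact (QuotientGroup.eq_one_iff _).1 (congrArg Subtype.val hx)
  have hge : (pPrimeCore 2 Xb).comap r ≤ pPrimeCore 2 X := by
    refine FittingCores.le_pPrimeCore inferInstance ?_
    have h1 : r.ker ≤ (pPrimeCore 2 Xb).comap r := by rw [← MonoidHom.comap_bot]; exact comap_mono bot_le
    rw [← relIndex_bot_left, ← relIndex_mul_relIndex ⊥ r.ker _ bot_le h1, relIndex_bot_left]
    refine Nat.Coprime.mul_left hkr ?_
    rw [← MonoidHom.comap_bot, relIndex_comap, map_comap_eq_self_of_surjective hr, relIndex_bot_left]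
    exact FittingCores.pPrimeCore_coprime 2
  let g : ↥X ⧸ pPrimeCore 2 X →* ↥Xb ⧸ pPrimeCore 2 Xb := QuotientGroup.map _ _ r hle
  have hg : Function.Bijective g := by
    refine ⟨?_, fun y => ?_⟩
    · rw [← MonoidHom.ker_eq_bot_iff, QuotientGroup.ker_map, Subgroup.map_eq_bot_iff, QuotientGroup.ker_mk']
      exact hge
    · obtain ⟨z, rfl⟩ := QuotientGroup.mk'_surjective _ y
      obtain ⟨x, rfl⟩ := hr z
      exact ⟨QuotientGroup.mk' _ x, rfl⟩
  -- components of X are inner
  set I := innerOn K ⊓ H with hI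
  have hXI : (pLayer 2 X).map (H.subtype.comp X.subtype) ≤ I := by
    rw [map_le_iff_le_comap]
    refine sSup_le fun C hC => ?_
    rw [← map_le_iff_le_comap]
    have h1 := (pcin_of_comp hC).map H.subtype (by
      rw [Ne, Subgroup.map_eq_bot_iff_of_injective _ H.subtype_injective]
      exact (pcin_of_comp hC).ne_bot)
    have hXe : X.map H.subtype = centralizer (Q' : Set G) ⊓ H := by
      ext y
      constructor
      · rintro ⟨x, hx, rfl⟩
        exact ⟨mem_centralizer_iff.2 fun z hz => congrArg Subtype.val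
          (mem_centralizer_iff.1 hx ⟨z, hQ'H hz⟩ (mem_subgroupOf.2 hz)), x.2⟩
      · rintro ⟨hy, hyH⟩
        exact ⟨⟨y, hyH⟩, mem_centralizer_iff.2 fun z hz => Subtype.ext (mem_centralizer_iff.1 hy _ (mem_subgroupOf.1 hz)), rfl⟩
    rw [hXe] at h1
    have hHe : centralizer (Q' : Set G) ⊓ H = centralizer (Q' : Set G) ⊓ normalizer (K : Set G) :=
      le_antisymm (inf_le_inf_left _ inf_le_right) (le_inf inf_le_left (le_inf
        (inf_le_left.trans ((centralizer_le (SetLike.coe_subset_coe.2 (le_sup_left : Q ≤ Q'))).trans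
          (centralizer_le_normalizer _))) inf_le_right))
    rw [hHe] at h1
    rw [← Subgroup.map_map]
    exact le_inf (ih _ hk' Q' le_rfl hQ'p hQ'K _ h1) (map_subtype_le _)
  -- conclusion
  set O₁ := (pPrimeCore 2 H).map H.subtype with hO₁
  set O₂ := (pPrimeCore 2 X).map (H.subtype.comp X.subtype) with hO₂
  have hcard : (Nat.card (O₁ ⊔ O₂ : Subgroup G)).Coprime 2 := by
    rw [hO₁, hO₂, ← Subgroup.map_map, ← Subgroup.map_sup, card_map_of_injective H.subtype_injective, sup_comm]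
    exact Cfsg.Agent.PBasic.coprime_card_sup_of_normal _ _
      (by rw [card_map_of_injective X.subtype_injective]; exact FittingCores.pPrimeCore_coprime 2)
      (FittingCores.pPrimeCore_coprime 2)
  refine (pGen_absorb (H := H) (I := I) (O := O₁ ⊔ O₂) inf_le_right
    ((le_inf (inf_le_right.trans (le_normalizer_innerOn K)) le_normalizer).trans inf_normalizer_le_normalizer_inf)
    (sup_le (map_subtype_le _) (by rw [hO₂, ← Subgroup.map_map]; exact map_subtype_le _))
    hcard hL.gen fun x hx => ?_).trans inf_le_left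
  have hxm : f ⟨x, hLH.le hx⟩ ∈ L₀.map f := mem_map_of_mem f hx
  have hy : (⟨f ⟨x, hLH.le hx⟩, hfU hxm⟩ : Xb) ∈ pLayer 2 Xb :=
    le_sSup (show (L₀.map f).subgroupOf Xb ∈ {K : Subgroup Xb | IsPComponent 2 K} from hLb.toComp) hxm
  have h2 : QuotientGroup.mk' (pPrimeCore 2 Xb) ⟨f ⟨x, hLH.le hx⟩, hfU hxm⟩ ∈ layer _ :=
    map_pLayer.le (mem_map_of_mem _ hy)
  rw [← layer_map_equiv (MulEquiv.ofBijective g hg)] at h2
  obtain ⟨zb, hzb, hze⟩ := h2
  obtain ⟨z, hz, rfl⟩ := map_pLayer.ge hzb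
  have h3 : (r z)⁻¹ * ⟨f ⟨x, hLH.le hx⟩, hfU hxm⟩ ∈ pPrimeCore 2 Xb := QuotientGroup.eq.1 hze
  obtain ⟨w, hw⟩ := hr ((r z)⁻¹ * ⟨f ⟨x, hLH.le hx⟩, hfU hxm⟩)
  have hwO : w ∈ pPrimeCore 2 X := hge (show r w ∈ pPrimeCore 2 Xb by rw [hw]; exact h3)
  have h4 : ((z * w : X) : H)⁻¹ * ⟨x, hLH.le hx⟩ ∈ pPrimeCore 2 H := by
    rw [← QuotientGroup.eq]
    have : r (z * w) = ⟨f ⟨x, hLH.le hx⟩, hfU hxm⟩ := by rw [map_mul, hw, mul_inv_cancel_left]
    exact congrArg Subtype.val this
  have h5 : x = (((z : X) : H) : G) * (((w : X) : H) : G) * ((((z * w : X) : H)⁻¹ * ⟨x, hLH.le hx⟩ : H) : G) := by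
    simp [mul_assoc]
  rw [h5]
  refine mul_mem (mul_mem (mem_sup_left ?_) (mem_sup_right (mem_sup_right ⟨w, hwO, rfl⟩)))
    (mem_sup_right (mem_sup_left ⟨_, h4, rfl⟩))
  exact hXI ⟨z, hz, rfl⟩

end Cfsg.Agent.LBalance
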