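/-
`L_{2'}`-balance, without hypotheses on the components.
-/
import Cfsg.Agent.Lib.LBalance.Component

set_option autoImplicit false
set_option linter.style.haveILetI false

namespace Cfsg.Agent.LBalance

open Subgroup Cfsg.Agent.Components Cfsg.Agent.BpBalance
open scoped commutatorElement

universe u

variable {G : Type u} [Group G] [Finite G]

/-- The layer modulo its centre has trivial odd core. -/
theorem core_layer_quotient (hO : pPrimeCore 2 G = ⊥) :
    pPrimeCore 2 (↥(layer G) ⧸ center ↥(layer G)) = ⊥ := by
  haveI : Fact (Nat.Prime 2) := ⟨Nat.prime_two⟩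
  set E := layer G with hE
  set f := QuotientGroup.mk' (center ↥E) with hf
  haveI hOn := FittingCores.pPrimeCore_normal (G := ↥E ⧸ center ↥E) 2
  set P := (pPrimeCore 2 (↥E ⧸ center ↥E)).comap f with hP
  haveI hPn : P.Normal := hOn.comap f
  have hPc : P ≤ center ↥E := by
    intro x hx
    rw [mem_center_iff]
    intro y
    have hcomm : E ≤ centralizer ({(x : G)} : Set G) := layer_le_iff.2 fun K hK => by
      have hKE : K ≤ E := component_le_layer hK
      set M := P.map E.subtype with hM
      have hEM : E ≤ normalizer (M : Set G) := by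
        have h2 : P.map E.subtype ≤ E := map_subtype_le _
        refine (normal_subgroupOf_iff_le_normalizer h2).1 ?_
        rw [subgroupOf, comap_map_eq_self_of_injective E.subtype_injective]
        exact hPn
      have hKM : K ≤ normalizer (M : Set G) := hKE.trans hEM
      have hn : (M.subgroupOf K).Normal := ⟨fun m hm k => by
        rw [mem_subgroupOf] at hm ⊢
        exact (mem_normalizer_iff.1 (hKM k.2) _).1 hm⟩
      haveI := hn
      have hMK : ⁅M, K⁆ ≤ M ⊓ K := by
        refine le_inf (commutator_le_of_le_normalizer hKM) ?_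
        rw [commutator_comm]
        exact commutator_le_of_le_normalizer ((map_subtype_le P).trans (layer_le_normalizer_component hK))
      rcases (quasisimple_normal hK.2 (M.subgroupOf K)).symm with h | h
      · have h3 : M ⊓ K ≤ centralizer (K : Set G) := fun m hm => mem_centralizer_iff.2 fun k hk =>
          congrArg Subtype.val (mem_center_iff.1 (h (show (⟨m, hm.2⟩ : K) ∈ M.subgroupOf K from hm.1)) ⟨k, hk⟩)
        have h1 : ⁅⁅M, K⁆, K⁆ = ⊥ := commutator_eq_bot_iff_le_centralizer.2 (hMK.trans h3)
        have h2 : ⁅⁅K, K⁆, M⁆ = ⊥ :=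
          commutator_commutator_eq_bot_of_rotate (by rw [commutator_comm K M]; exact h1) h1
        rw [component_commutator_eq hK, commutator_comm, commutator_eq_bot_iff_le_centralizer] at h2
        intro k hk
        rw [mem_centralizer_singleton_iff]
        exact mem_centralizer_iff.1 (h2 (mem_map_of_mem _ hx : (x : G) ∈ M)) k hk
      · exfalso
        obtain ⟨z, hz, ⟨k, hk⟩, hzc⟩ := component_not_le_pPrime (p := 2) hO hK
        have hzM : z ∈ M := mem_subgroupOf.1 (show (⟨z, hz⟩ : K) ∈ M.subgroupOf K by rw [h]; exact mem_top _)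
        obtain ⟨w, hw, hwz⟩ := hzM
        have hw1 : f w = 1 := by
          rw [← orderOf_eq_one_iff]
          refine Nat.eq_one_of_dvd_coprimes ((Cfsg.Agent.PBasic.coprime_orderOf_of_mem
            (FittingCores.pPrimeCore_coprime (G := ↥E ⧸ center ↥E) 2) hw).pow_right k) dvd_rfl
            (orderOf_dvd_of_pow_eq_one ?_)
          rw [← map_pow, show w ^ 2 ^ k = 1 from Subtype.ext (by rw [Subgroup.coe_pow, show (w : G) = z from hwz]; exact hk), map_one]
        refine hzc (mem_centralizer_iff.2 fun v hv => ?_)
        have := congrArg Subtype.val (mem_center_iff.1 ((QuotientGroup.eq_one_iff w).1 hw1) ⟨v, hKE hv⟩)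
        rw [← show (w : G) = z from hwz]
        exact this
    exact Subtype.ext (mem_centralizer_singleton_iff.1 (hcomm y.2))
  rw [eq_bot_iff]
  intro y hy
  obtain ⟨x, rfl⟩ := QuotientGroup.mk'_surjective _ y
  exact (QuotientGroup.eq_one_iff x).2 (hPc hy)

variable (G) in
/-- The layer times its centralizer. -/
abbrev innerLayer : Subgroup G := innerOn (layer G)

/-- A subgroup inside the layer modulo the core of a local subgroup centralizes its normal 2-subgroups. -/
theorem cent_of_layer {P : Subgroup G} (hP : IsPGroup 2 P) {L : Subgroup G} (hLN : L ≤ normalizer (P : Set G))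
    (hLE : L.subgroupOf (normalizer (P : Set G)) ≤
      (layer (↥(normalizer (P : Set G)) ⧸ pPrimeCore 2 ↥(normalizer (P : Set G)))).comap
        (QuotientGroup.mk' (pPrimeCore 2 ↥(normalizer (P : Set G))))) {T : Subgroup G}
    (hT : T ≤ normalizer (P : Set G)) (hTp : IsPGroup 2 T)
    (hTn : normalizer (P : Set G) ≤ normalizer (T : Set G)) : L ≤ centralizer (T : Set G) := by
  haveI : Fact (Nat.Prime 2) := ⟨Nat.prime_two⟩
  set N := normalizer (P : Set G) with hN
  haveI := FittingCores.pPrimeCore_normal (G := N) 2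
  let f := QuotientGroup.mk' (pPrimeCore 2 ↥N)
  have hQc : (Nat.card ((pPrimeCore 2 ↥N).map N.subtype)).Coprime 2 := (pPrimeCore_normalizer_props P hP).2.2
  intro x hx
  haveI : Group.IsNilpotent ↥((T.subgroupOf N).map f) :=
    ((hTp.comap_of_injective N.subtype N.subtype_injective : IsPGroup 2 (T.subgroupOf N)).map f).isNilpotent
  have hTN : ((T.subgroupOf N).map f).Normal :=
    Normal.map ((normal_subgroupOf_iff_le_normalizer hT).2 hTn) f (QuotientGroup.mk'_surjective _)
  have hcom := layer_commute_solvable (H := (T.subgroupOf N).map f) inferInstance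
    (by rw [normalizer_eq_top_iff.2 hTN]; exact le_top)
  rw [mem_centralizer_iff]
  intro t ht
  have h1 : f ⁅(⟨x, hLN hx⟩ : N), (⟨t, hT ht⟩ : N)⁆ = 1 := by
    rw [map_commutatorElement]
    have h1 : f (⟨x, hLN hx⟩ : N) ∈ layer (↥N ⧸ pPrimeCore 2 ↥N) :=
      hLE (show (⟨x, hLN hx⟩ : N) ∈ L.subgroupOf N from hx)
    have := commutator_mem_commutator h1
      (mem_map_of_mem f (show (⟨t, hT ht⟩ : N) ∈ T.subgroupOf N from ht))
    rwa [hcom, mem_bot] at this
  have hR := (QuotientGroup.eq_one_iff _).1 h1
  have h2 : x * t * x⁻¹ * t⁻¹ ∈ T := mul_mem ((mem_normalizer_iff.1 (hTn (hLN hx)) t).1 ht) (inv_mem ht)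
  have h3 : x * t * x⁻¹ * t⁻¹ = 1 :=
    Cfsg.Agent.PBasic.eq_one_of_isPGroup_of_coprime hTp h2
      (Cfsg.Agent.PBasic.coprime_orderOf_of_mem hQc ⟨_, hR, by simp [commutatorElement_def]⟩)
  rw [mul_inv_eq_one] at h3
  exact (mul_inv_eq_iff_eq_mul.1 h3).symm

/-- Balance for a group with trivial odd core. -/
theorem balance_core (hO : pPrimeCore 2 G = ⊥) {P : Subgroup G} (hP : IsPGroup 2 P) :
    (pLayer 2 ↥(normalizer (P : Set G))).map (normalizer (P : Set G)).subtype ≤ layer G := by
  classical
  haveI : Fact (Nat.Prime 2) := ⟨Nat.prime_two⟩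
  set N := normalizer (P : Set G) with hN
  haveI hEn := layer_normal (G := G)
  haveI := FittingCores.pCore_normal (G := G) 2
  rw [map_le_iff_le_comap]
  refine sSup_le fun C hC => ?_
  rw [← map_le_iff_le_comap]
  have hCN := pcin_of_comp hC
  set L := C.map N.subtype with hLdef
  have hLN : L ≤ N := hCN.le
  have hLE : L.subgroupOf N ≤ (layer (↥N ⧸ pPrimeCore 2 ↥N)).comap (QuotientGroup.mk' (pPrimeCore 2 ↥N)) := by
    rw [hLdef, subgroupOf, comap_map_eq_self_of_injective N.subtype_injective, ← map_le_iff_le_comap]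
    exact (map_mono (le_sSup hC)).trans map_pLayer.le
  have hL := hCN.perfect
  have hLP : L ≤ centralizer (P : Set G) := cent_of_layer hP hLN hLE le_normalizer hP le_rfl
  have hLQ : L ≤ centralizer ((pCore 2 G ⊓ centralizer (P : Set G) : Subgroup G) : Set G) :=
    cent_of_layer hP hLN hLE (inf_le_right.trans (centralizer_le_normalizer _))
      ((FittingCores.pCore_isPGroup 2).to_le inf_le_left)
      ((le_inf le_normalizer_of_normal (normalizer_le_normalizer_centralizer P)).trans
        inf_normalizer_le_normalizer_inf)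
  have hLF : L ≤ centralizer (pCore 2 G : Set G) := by
    have := le_ker_of_perfect (p := 2) hL (QuotientGroup.mk' (centralizer (pCore 2 G : Set G))) (fun x hx => by
      refine ⟨(orderOf x).factorization 2, ?_⟩
      rw [← map_pow]
      refine (QuotientGroup.eq_one_iff _).2 (centralizes_pCore_of_coprime hP ?_ (pow_mem (hLP hx) _)
        (pow_mem (hLQ hx) _))
      have h0 := (orderOf_pos x).ne'
      rw [orderOf_pow' _ (pow_ne_zero _ (Fact.out : Nat.Prime 2).ne_zero),
        Nat.gcd_eq_right (Nat.ordProj_dvd _ _), Nat.coprime_comm]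
      exact Nat.coprime_ordCompl Fact.out h0)
    rwa [QuotientGroup.ker_mk'] at this
  have htop : normalizer (layer G : Set G) = ⊤ := normalizer_eq_top_iff.2 hEn
  have hin : L ≤ innerOn (layer G) := le_innerOn_of_pcin (layer_commutator_eq (G := G)) (core_layer_quotient hO) _ P
    le_rfl hP (htop ▸ le_top) L (by rw [htop, inf_top_eq]; exact hCN.mono hLP (centralizer_le_normalizer _))
  haveI := fittingSubgroup_normal (G := G)
  haveI := fittingSubgroup_nilpotent (G := G)
  have hF : IsPGroup 2 (fittingSubgroup G) := isPGroup_of_normal_nilpotent hO _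
  have hFle : fittingSubgroup G ≤ pCore 2 G := FittingCores.le_pCore inferInstance hF
  have hstar : L ≤ generalizedFittingSubgroup G := by
    intro x hx
    obtain ⟨e, he, hec⟩ := hin hx
    have hc : e⁻¹ * x ∈ centralizer (generalizedFittingSubgroup G : Set G) := by
      have : generalizedFittingSubgroup G ≤ centralizer ({e⁻¹ * x} : Set G) := by
        refine sup_le ?_ ?_ <;> intro y hy <;> rw [mem_centralizer_iff] <;> rintro _ rfl
        · exact (mem_centralizer_iff.1 hec y hy).symm
        · have h1 : e ∈ centralizer (fittingSubgroup G : Set G) := layer_le_centralizer_fitting he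
          have h2 : x ∈ centralizer (fittingSubgroup G : Set G) := centralizer_le hFle (hLF hx)
          exact (mem_centralizer_iff.1 (mul_mem (inv_mem h1) h2) y hy).symm
      rw [mem_centralizer_iff]
      exact fun y hy => (mem_centralizer_iff.1 (this hy) _ rfl).symm
    simpa using mul_mem (layer_le_generalizedFitting he) (centralizer_generalizedFitting_le hc)
  have := le_ker_of_perfect (p := 2) hL (QuotientGroup.mk' (layer G)) (fun x hx => by
    obtain ⟨a, ha, b, hb, rfl⟩ := mem_sup_of_normal_left.1 (show x ∈ layer G ⊔ fittingSubgroup G from hstar hx)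
    obtain ⟨n, hn⟩ := hF ⟨b, hb⟩
    refine ⟨n, ?_⟩
    rw [map_mul, show QuotientGroup.mk' (layer G) a = 1 from (QuotientGroup.eq_one_iff a).2 ha, one_mul,
      ← map_pow, show b ^ 2 ^ n = 1 from congrArg Subtype.val hn, map_one])
  rwa [QuotientGroup.ker_mk'] at this

/-- `L_{2'}`-balance for normalizers of 2-subgroups. -/
theorem pLayer_normalizer_le_two {R : Subgroup G} (hR : IsPGroup 2 R) :
    (pLayer 2 ↥(normalizer (R : Set G))).map (normalizer (R : Set G)).subtype ≤ pLayer 2 G := by
  classical
  haveI : Fact (Nat.Prime 2) := ⟨Nat.prime_two⟩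
  haveI := FittingCores.pPrimeCore_normal (G := G) 2
  set O := pPrimeCore 2 G with hOdef
  set q := QuotientGroup.mk' O with hq
  set N := normalizer (R : Set G) with hN
  have hOc : (Nat.card O).Coprime 2 := FittingCores.pPrimeCore_coprime 2
  set Nb := normalizer ((R.map q : Subgroup (G ⧸ O)) : Set (G ⧸ O)) with hNb
  have hNq : N.map q = Nb := Cfsg.Agent.Components.map_normalizer_eq hOc hR
  set L := (pLayer 2 ↥N).map N.subtype with hL
  have hb := balance_core (G := G ⧸ O) (Cfsg.Agent.Components.pPrimeCore_quotient G) (hR.map q)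
  have hgen : L ≤ pGen 2 L := by
    rw [hL, map_le_iff_le_comap]
    refine sSup_le fun K hK => ?_
    rw [← map_le_iff_le_comap]
    conv_lhs => rw [← pComponent_pGen hK]
    exact (map_pGen_le N.subtype K).trans (pGen_mono (map_mono (le_sSup hK)))
  have hLb : L.map q ≤ layer (G ⧸ O) := by
    refine le_trans ?_ hb
    rw [hL, Subgroup.map_map, map_le_iff_le_comap]
    refine sSup_le fun K hK => ?_
    rw [← map_le_iff_le_comap, ← Subgroup.map_map]
    by_cases hne : (K.map N.subtype).map q = ⊥
    · rw [hne]; exact bot_le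
    have h1 := (pcin_of_comp hK).map q hne
    rw [hNq] at h1
    rw [← map_subgroupOf_eq_of_le h1.le]
    exact map_mono (le_sSup h1.toComp)
  have hLE : L ≤ pLayer 2 G ⊔ O := by
    rw [← map_pLayer (p := 2), map_le_iff_le_comap, comap_map_eq, QuotientGroup.ker_mk'] at hLb
    exact hLb
  haveI := pLayer_normal (G := G) (p := 2)
  refine hgen.trans ((pGen_mono hLE).trans (pGen_le_of_normal le_sup_left inferInstance ?_))
  rw [sup_comm, relIndex_sup_right]
  exact hOc.coprime_dvd_left (relIndex_dvd_card _ _)

/-- `L_{2'}`-balance for centralizers of 2-subgroups. -/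
theorem pLayer_centralizer_le_two {R : Subgroup G} (hR : IsPGroup 2 R) :
    (pLayer 2 ↥(centralizer (R : Set G))).map (centralizer (R : Set G)).subtype ≤ pLayer 2 G := by
  haveI : Fact (Nat.Prime 2) := ⟨Nat.prime_two⟩
  refine le_trans ?_ (pLayer_normalizer_le_two hR)
  rw [map_le_iff_le_comap]
  refine sSup_le fun K hK => ?_
  rw [← map_le_iff_le_comap]
  have h1 := (pcin_of_comp hK).up (centralizer_le_normalizer _) (normalizer_le_normalizer_centralizer R)
  rw [← map_subgroupOf_eq_of_le h1.le]
  exact map_mono (le_sSup h1.toComp)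

end Cfsg.Agent.LBalance
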